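import Cfsg.Agent.H977.L16.Rat
import Cfsg.Agent.H977.L16.Word
import Cfsg.Agent.H977.L16.EvW

/-!
# S5916, piece END-E (helper977)

`end_e` : the socle of `H` has no non-zero fixed vector on `LK`.
-/

set_option autoImplicit false
set_option maxRecDepth 100000
set_option linter.unusedSectionVars false

namespace Cfsg.Agent.H977.L16

open Matrix Cfsg Cfsg.Lie Cfsg.Lie.ChevalleyDatum
open Cfsg.Agent.ChevalleyStructure
open Cfsg.Agent.H942.E8Tab
open Cfsg.Agent.H950.L16
open Cfsg.Agent.H939.L64 (KK E2 LK L2 em aK fr rE brK em_injective em_entry fixS rE_apply rE_mul)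
open Cfsg.Agent.H876.L64 (aK_mul aK_one aK_inv aK_inv' aK_add aK_smul aK_zero aK_brK two_zero)
open Cfsg.Agent.H413.L64 (charKK)
open Cfsg.Agent.H413.L16
open Cfsg.Agent.H939.L16 (Ops Lsit rz rz_apply wi wt16)
open Cfsg.Agent.ChevalleyStructure.Columns (car cor)

/-- the family of vectors -/
noncomputable def VV (u0 : LK) (v : KK × KK × KK) : LK := u0 + v.1 • er 121 + v.2.1 • er 118 + v.2.2 • hr 121

/-- the base vector -/
structure Bs (u0 : LK) (t : KK) : Prop where
  p : brK (er 121) u0 = t • er 121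
  m : brK (er 118) u0 = t • er 118
  zp : u0 (Sum.inr ⟨239 - 118, by rw [nr]; norm_num⟩) = 0
  zm : u0 (Sum.inr ⟨239 - 121, by rw [nr]; norm_num⟩) = 0

theorem hr_118 : hr 118 = hr 121 := hr_neg (r := 121) (by norm_num)

theorem act_st {u0 : LK} {t : KK} (B : Bs u0 t) (a : Bool × KK) (v : KK × KK × KK) :
    aK (xr (if a.1 then 121 else 239 - 121) a.2) (VV u0 v) = VV u0 (st t a v) := by
  obtain ⟨b, c⟩ := a
  obtain ⟨x, y, h⟩ := v
  cases b
  · show aK (xr 118 c) (u0 + x • er 121 + y • er 118 + h • hr 121) =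
      u0 + x • er 121 + (y + c * t + c ^ 2 * x) • er 118 + (h + c * x) • hr 121
    have e1 : aK (xr 118 c) (er 121) = er 121 + c • hr 121 + c ^ 2 • er 118 := by
      have := aK_xr_neg (r := 118) (by norm_num) c
      rwa [hr_118] at this
    have e2 : aK (xr 118 c) (hr 121) = hr 121 := by
      have := aK_xr_hr (r := 118) (by norm_num) c
      rwa [hr_118] at this
    rw [aK_add, aK_add, aK_add, aK_smul, aK_smul, aK_smul, e1, e2, aK_xr_self (by norm_num), aK_xr (by norm_num) c u0,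
      B.m, B.zp, mul_zero, zero_smul, add_zero]
    module
  · show aK (xr 121 c) (u0 + x • er 121 + y • er 118 + h • hr 121) =
      u0 + (x + c * t + c ^ 2 * y) • er 121 + y • er 118 + (h + c * y) • hr 121
    have e1 : aK (xr 121 c) (er 118) = er 118 + c • hr 121 + c ^ 2 • er 121 := aK_xr_neg (r := 121) (by norm_num) c
    rw [aK_add, aK_add, aK_add, aK_smul, aK_smul, aK_smul, e1, aK_xr_hr (by norm_num), aK_xr_self (by norm_num),
      aK_xr (by norm_num) c u0, B.p, B.zm, mul_zero, zero_smul, add_zero]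
    module

theorem act_wd {u0 : LK} {t : KK} (B : Bs u0 t) (w : List (Bool × KK)) (v : KK × KK × KK) :
    aK (wd 121 w) (VV u0 v) = VV u0 (ev t w v) := by
  induction w with
  | nil => rw [wd_nil, aK_one, ev_nil]
  | cons a w ih => rw [wd_cons, aK_mul, ih, act_st B, ev_cons]

theorem bs_zero : Bs 0 0 where
  p := by
    rw [zero_smul]
    exact Cfsg.Agent.H939.L64.brL (er 121) |>.map_zero
  m := by
    rw [zero_smul]
    exact Cfsg.Agent.H939.L64.brL (er 118) |>.map_zero
  zp := rfl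
  zm := rfl

theorem VV_121 (v : KK × KK × KK) : VV 0 v (Sum.inr ⟨121, by rw [nr]; norm_num⟩) = v.1 := by
  unfold VV
  rw [Pi.add_apply, Pi.add_apply, Pi.add_apply, Pi.smul_apply, Pi.smul_apply, Pi.smul_apply, er_inr, er_inr, hr_inr,
    if_pos rfl, if_neg (by norm_num)]
  simp

theorem VV_118 (v : KK × KK × KK) : VV 0 v (Sum.inr ⟨118, by rw [nr]; norm_num⟩) = v.2.1 := by
  unfold VV
  rw [Pi.add_apply, Pi.add_apply, Pi.add_apply, Pi.smul_apply, Pi.smul_apply, Pi.smul_apply, er_inr, er_inr, hr_inr,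
    if_pos rfl, if_neg (by norm_num)]
  simp

theorem triv_of {w : List (Bool × KK)} (h1 : aK (wd 121 w) (er 121) = er 121) (h2 : aK (wd 121 w) (er 118) = er 118) :
    Triv w := by
  have e1 : VV 0 (1, 0, 0) = er 121 := by
    unfold VV
    simp
  have e2 : VV 0 (0, 1, 0) = er 118 := by
    unfold VV
    simp
  have g1 : VV 0 (ev 0 w (1, 0, 0)) = VV 0 (1, 0, 0) := by rw [← act_wd bs_zero, e1, h1]
  have g2 : VV 0 (ev 0 w (0, 1, 0)) = VV 0 (0, 1, 0) := by rw [← act_wd bs_zero, e2, h2]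
  refine ⟨?_, ?_, ?_, ?_⟩
  · rw [← VV_121, g1, VV_121]
  · rw [← VV_118, g1, VV_118]
  · rw [← VV_121, g2, VV_121]
  · rw [← VV_118, g2, VV_118]

theorem tg_zero : ((List.range 240).all fun s => decide (wt16 s = 0 → (s ≠ 118 → tg 121 s = 240) ∧
    (s ≠ 121 → tg 118 s = 240))) = true := by decide +kernel

theorem car_neg : ∀ i : Fin 8, (car chevE8 i 118 - car chevE8 i 121) % 2 = 0 := by decide +kernel

variable {F : Type} [Field F] [Fintype F] {H : Subgroup E2} {f : SpecialLinearGroup (Fin 2) F →* E2}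
  {y t0 : SpecialLinearGroup (Fin 2) F} {z : ↥(chevE8.group KK)} {ζ' : KK} {Fp : LK → LK} {ta : LK →ₗ[KK] LK}

theorem inr_zero (D : Lsit H f y t0 z ζ' Fp ta) {u : LK} (hu : aK (z⁻¹ * em (f y) * z) u = u) (k : Fin chevE8.nroots)
    (hk : wt16 k ≠ 0) : u (Sum.inr k) = 0 := by
  have h1 := Y_inr D u k
  rw [hu] at h1
  have h2 : ζ' ^ (wt16 k).val ≠ 1 := by
    intro h3
    have h4 := (D.prim.pow_eq_one_iff_dvd _).1 h3
    have h5 : (wt16 k).val < 17 := ZMod.val_lt _
    have h6 : (wt16 k).val = 0 := Nat.eq_zero_of_dvd_of_lt h4 h5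
    exact hk ((ZMod.val_eq_zero _).1 h6)
  have h3 : (ζ' ^ (wt16 k).val - 1) * u (Sum.inr k) = 0 := by linear_combination -h1
  rcases mul_eq_zero.1 h3 with h | h
  · exact absurd (sub_eq_zero.1 h) h2
  · exact h

theorem Fp_ne_zero (O : Ops Fp ta) {u : LK} (h : u ≠ 0) : Fp u ≠ 0 := by
  intro h1
  apply h
  apply O.inj
  rw [h1, Fp_zero O]

/-- the decomposition of a vector of weight zero -/
theorem decomp_zero (D : Lsit H f y t0 z ζ' Fp ta) {u : LK} (hY : aK (z⁻¹ * em (f y) * z) u = u) :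
    ∃ (u0 : LK) (t : KK), Bs u0 t ∧
      u = VV u0 (u (Sum.inr ⟨121, by rw [nr]; norm_num⟩), u (Sum.inr ⟨118, by rw [nr]; norm_num⟩), 0) := by
  set a := u (Sum.inr ⟨121, by rw [nr]; norm_num⟩) with ha
  set b := u (Sum.inr ⟨118, by rw [nr]; norm_num⟩) with hb
  set u0 : LK := u + a • er 121 + b • er 118 with hu0
  have hzp : u0 (Sum.inr ⟨121, by rw [nr]; norm_num⟩) = 0 := by
    rw [hu0, Pi.add_apply, Pi.add_apply, Pi.smul_apply, Pi.smul_apply, er_inr, er_inr, if_pos rfl,
      if_neg (by norm_num), smul_zero, add_zero, smul_eq_mul, mul_one, ← ha]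
    have := charKK
    exact CharTwo.add_self_eq_zero a
  have hzm : u0 (Sum.inr ⟨118, by rw [nr]; norm_num⟩) = 0 := by
    rw [hu0, Pi.add_apply, Pi.add_apply, Pi.smul_apply, Pi.smul_apply, er_inr, er_inr, if_pos rfl,
      if_neg (by norm_num), smul_zero, add_zero, smul_eq_mul, mul_one, ← hb]
    have := charKK
    exact CharTwo.add_self_eq_zero b
  have hYu0 : aK (z⁻¹ * em (f y) * z) u0 = u0 := by
    rw [hu0, aK_add, aK_add, aK_smul, aK_smul, hY, Y_er D (by norm_num) (wt_zero 121 (by simp)).1,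
      Y_er D (by norm_num) (wt_zero 121 (by simp)).2.1]
  have key : ∀ p ∈ [121, 118], brK (er p) u0 =
      (∑ i, u0 (Sum.inl i) * ((car chevE8 i p : ℤ) : KK)) • er p := by
    intro p hp
    have hp240 : p < 240 := by
      simp only [List.mem_cons, List.not_mem_nil, or_false] at hp
      omega
    conv_lhs => rw [decomp u0]
    have h1 : brK (er p) (hv (fun i => u0 (Sum.inl i)) + ∑ s : Fin chevE8.nroots, u0 (Sum.inr s) • er s) =
        brK (er p) (hv (fun i => u0 (Sum.inl i))) + ∑ s : Fin chevE8.nroots, u0 (Sum.inr s) • brK (er p) (er s) := by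
      have := (brM (er p)).map_add (hv (fun i => u0 (Sum.inl i))) (∑ s : Fin chevE8.nroots, u0 (Sum.inr s) • er s)
      rw [map_sum] at this
      simp_rw [map_smul] at this
      exact this
    rw [h1, br_er_hv _ hp240]
    have h2 : ∀ s : Fin chevE8.nroots, u0 (Sum.inr s) • brK (er p) (er s) = 0 := by
      intro s
      have hs : (s : ℕ) < 240 := lt_of_lt_of_eq s.2 nr
      by_cases hw : wt16 s = 0
      · have h3 := of_decide_eq_true (List.all_eq_true.1 tg_zero s (List.mem_range.2 hs)) hw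
        by_cases hsp : (s : ℕ) = 239 - p
        · have : u0 (Sum.inr s) = 0 := by
            simp only [List.mem_cons, List.not_mem_nil, or_false] at hp
            rcases hp with rfl | rfl
            · have e : s = ⟨118, by rw [nr]; norm_num⟩ := Fin.ext hsp
              rw [e]
              exact hzm
            · have e : s = ⟨121, by rw [nr]; norm_num⟩ := Fin.ext hsp
              rw [e]
              exact hzp
          rw [this, zero_smul]
        · rw [br_rr hp240 hs hsp]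
          have : tg p s = 240 := by
            simp only [List.mem_cons, List.not_mem_nil, or_false] at hp
            rcases hp with rfl | rfl
            · exact h3.1 hsp
            · exact h3.2 hsp
          rw [this, er_ge le_rfl, smul_zero]
      · rw [inr_zero D hYu0 s hw, zero_smul]
    rw [Finset.sum_congr rfl fun s _ => h2 s, Finset.sum_const_zero, add_zero]
  refine ⟨u0, ∑ i, u0 (Sum.inl i) * ((car chevE8 i 121 : ℤ) : KK), ⟨key 121 (by simp), ?_, hzp, hzm⟩, ?_⟩
  · have hs : ∀ i : Fin chevE8.rank, u0 (Sum.inl i) * ((car chevE8 i 118 : ℤ) : KK) =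
        u0 (Sum.inl i) * ((car chevE8 i 121 : ℤ) : KK) := by
      intro i
      have h := cast_congr (car_neg (i.cast rk8))
      have e : ((i.cast rk8 : Fin 8) : ℕ) = i := rfl
      rw [e] at h
      rw [h]
    rw [key 118 (by simp), Finset.sum_congr rfl fun i _ => hs i]
  · show u = u0 + a • er 121 + b • er 118 + (0 : KK) • hr 121
    rw [hu0, zero_smul, add_zero]
    have h1 := add_self' (a • er 121)
    have h2 := add_self' (b • er 118)
    calc u = u + 0 + 0 := by rw [add_zero, add_zero]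
      _ = u + (a • er 121 + a • er 121) + (b • er 118 + b • er 118) := by rw [h1, h2]
      _ = _ := by abel

/-- **END-E** -/
theorem end_e (S : Sit H f y) (D : Lsit H f y t0 z ζ' Fp ta) : fixS (rE.comp f) = ⊥ := by
  by_contra h0
  obtain ⟨v, hv0, hfr, hH⟩ := exists_fixed S h0
  have O := D.ops
  have := charKK
  have hu : Fp (aK z⁻¹ v) = aK z⁻¹ v := by rw [← D.frob, hfr]
  have hY : aK (z⁻¹ * em (f y) * z) (aK z⁻¹ v) = aK z⁻¹ v := by
    rw [aK_mul, aK_mul, aK_inv]
    have h1 : aK (em (f y)) v = v := hH _ (S.le y)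
    rw [h1]
  obtain ⟨u0, t, B, hdec⟩ := decomp_zero D hY
  set u := aK z⁻¹ v with hudef
  set a := u (Sum.inr ⟨121, by rw [nr]; norm_num⟩) with ha
  set b := u (Sum.inr ⟨118, by rw [nr]; norm_num⟩) with hb
  have e1 : wi 121 = 126 := by decide +kernel
  have e2 : wi 126 = 141 := by decide +kernel
  have e3 : wi 141 = 135 := by decide +kernel
  have e4 : wi 135 = 121 := by decide +kernel
  have ha16 : a ^ 16 = a := by
    have h1 := Fp_inr O u (s := 121) (by norm_num)
    have h2 := Fp_inr O u (s := 126) (by norm_num)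
    have h3 := Fp_inr O u (s := 141) (by norm_num)
    have h4 := Fp_inr O u (s := 135) (by norm_num)
    rw [hu] at h1 h2 h3 h4
    have g1 : (⟨wi 121, by rw [nr]; exact wi_lt (by norm_num)⟩ : Fin chevE8.nroots) = ⟨126, by rw [nr]; norm_num⟩ :=
      Fin.ext e1
    have g2 : (⟨wi 126, by rw [nr]; exact wi_lt (by norm_num)⟩ : Fin chevE8.nroots) = ⟨141, by rw [nr]; norm_num⟩ :=
      Fin.ext e2
    have g3 : (⟨wi 141, by rw [nr]; exact wi_lt (by norm_num)⟩ : Fin chevE8.nroots) = ⟨135, by rw [nr]; norm_num⟩ :=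
      Fin.ext e3
    have g4 : (⟨wi 135, by rw [nr]; exact wi_lt (by norm_num)⟩ : Fin chevE8.nroots) = ⟨121, by rw [nr]; norm_num⟩ :=
      Fin.ext e4
    rw [g1] at h1
    rw [g2, h1] at h2
    rw [g3, h2] at h3
    rw [g4, h3] at h4
    rw [ha]
    conv_rhs => rw [h4]
    ring
  have e5 : wi 118 = 113 := by decide +kernel
  have e6 : wi 113 = 98 := by decide +kernel
  have e7 : wi 98 = 104 := by decide +kernel
  have e8 : wi 104 = 118 := by decide +kernel
  have hb16 : b ^ 16 = b := by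
    have h1 := Fp_inr O u (s := 118) (by norm_num)
    have h2 := Fp_inr O u (s := 113) (by norm_num)
    have h3 := Fp_inr O u (s := 98) (by norm_num)
    have h4 := Fp_inr O u (s := 104) (by norm_num)
    rw [hu] at h1 h2 h3 h4
    have g1 : (⟨wi 118, by rw [nr]; exact wi_lt (by norm_num)⟩ : Fin chevE8.nroots) = ⟨113, by rw [nr]; norm_num⟩ :=
      Fin.ext e5
    have g2 : (⟨wi 113, by rw [nr]; exact wi_lt (by norm_num)⟩ : Fin chevE8.nroots) = ⟨98, by rw [nr]; norm_num⟩ :=
      Fin.ext e6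
    have g3 : (⟨wi 98, by rw [nr]; exact wi_lt (by norm_num)⟩ : Fin chevE8.nroots) = ⟨104, by rw [nr]; norm_num⟩ :=
      Fin.ext e7
    have g4 : (⟨wi 104, by rw [nr]; exact wi_lt (by norm_num)⟩ : Fin chevE8.nroots) = ⟨118, by rw [nr]; norm_num⟩ :=
      Fin.ext e8
    rw [g1] at h1
    rw [g2, h1] at h2
    rw [g3, h2] at h3
    rw [g4, h3] at h4
    rw [hb]
    conv_rhs => rw [h4]
    ring
  -- the bracket with `e_{121}`
  have ht16 : t ^ 16 = t := by
    have hbr : brK (er 121) u = t • er 121 + b • hr 121 := by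
      conv_lhs => rw [hdec]
      have h1 : brK (er 121) (VV u0 (a, b, 0)) = brK (er 121) u0 + a • brK (er 121) (er 121) +
          b • brK (er 121) (er 118) + (0 : KK) • brK (er 121) (hr 121) := by
        have h2 : ∀ w : LK, brK (er 121) w = brM (er 121) w := fun _ => rfl
        unfold VV
        rw [h2, map_add, map_add, map_add, map_smul, map_smul, map_smul]
        rfl
      have h3 : brK (er 121) (er 118) = hr 121 := br_neg (r := 121) (by norm_num)
      have h4 : brK (er 121) (er 121) = 0 := by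
        rw [br_rr (by norm_num) (by norm_num) (by norm_num), tg_self (by norm_num), er_ge le_rfl]
      rw [h1, B.p, h3, h4, smul_zero, add_zero, zero_smul, add_zero]
    have q1 : brK (er 126) u = t ^ 2 • er 126 + b ^ 2 • hr 126 := by
      have := congrArg Fp hbr
      rwa [O.br, hu, O.add, O.smul, O.smul, O.er 121 (by norm_num), Fp_hr O (by norm_num), e1] at this
    have q2 : brK (er 141) u = (t ^ 2) ^ 2 • er 141 + (b ^ 2) ^ 2 • hr 141 := by
      have := congrArg Fp q1
      rwa [O.br, hu, O.add, O.smul, O.smul, O.er 126 (by norm_num), Fp_hr O (by norm_num), e2] at this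
    have q3 : brK (er 135) u = ((t ^ 2) ^ 2) ^ 2 • er 135 + ((b ^ 2) ^ 2) ^ 2 • hr 135 := by
      have := congrArg Fp q2
      rwa [O.br, hu, O.add, O.smul, O.smul, O.er 141 (by norm_num), Fp_hr O (by norm_num), e3] at this
    have q4 : brK (er 121) u = (((t ^ 2) ^ 2) ^ 2) ^ 2 • er 121 + (((b ^ 2) ^ 2) ^ 2) ^ 2 • hr 121 := by
      have := congrArg Fp q3
      rwa [O.br, hu, O.add, O.smul, O.smul, O.er 135 (by norm_num), Fp_hr O (by norm_num), e4] at this
    rw [hbr] at q4
    have h5 := congrFun q4 (Sum.inr ⟨121, by rw [nr]; norm_num⟩)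
    rw [Pi.add_apply, Pi.add_apply, Pi.smul_apply, Pi.smul_apply, Pi.smul_apply, Pi.smul_apply, er_inr, if_pos rfl,
      hr_inr, smul_zero, smul_zero, add_zero, add_zero, smul_eq_mul, smul_eq_mul, mul_one, mul_one] at h5
    conv_rhs => rw [h5]
    ring
  -- the scalar
  have hζ0 : ζ' ≠ 0 := D.prim.ne_zero (by norm_num)
  have hζ17 : ζ' ^ 17 = 1 := D.prim.pow_eq_one
  have hi : ζ' * ζ'⁻¹ = 1 := mul_inv_cancel₀ hζ0
  have h2 : (2 : KK) = 0 := two_zero
  have hl16 : (ζ' + ζ'⁻¹) ^ 16 = ζ' + ζ'⁻¹ := by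
    have h16 : (ζ' + ζ'⁻¹) ^ 16 = ζ' ^ 16 + ζ'⁻¹ ^ 16 := by
      rw [show 16 = 2 ^ 4 from rfl]
      exact add_pow_char_pow ζ' ζ'⁻¹ 2 4
    have h5 : ζ' ^ 16 = ζ'⁻¹ := by
      have h6 : ζ' ^ 16 * ζ' = 1 := by rw [← pow_succ]; exact hζ17
      exact eq_inv_of_mul_eq_one_left h6
    rw [h16, inv_pow, h5, inv_inv, add_comm]
  have hl0 : ζ' + ζ'⁻¹ ≠ 0 := by
    intro h
    have h5 : ζ' ^ 2 = 1 := by linear_combination ζ' * h - hi - h2
    have h6 := (D.prim.pow_eq_one_iff_dvd 2).1 h5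
    omega
  have hl1 : ζ' + ζ'⁻¹ ≠ 1 := by
    intro h
    have h5 : ζ' ^ 2 - ζ' + 1 = 0 := by linear_combination ζ' * h - hi
    have h7 : ζ' ^ 3 = 1 := by linear_combination (ζ' + 1) * h5 - h2
    have h6 := (D.prim.pow_eq_one_iff_dvd 3).1 h7
    omega
  obtain ⟨w, hw, hfix, hn⟩ := exists_word ht16 ha16 hb16 hl16 hl0 hl1
  have h5 : aK (wd 121 w) u = u := by
    rw [hdec, act_wd B, hfix]
  obtain ⟨g1, g2⟩ := contra S D hv0 hfr hH hw h5
  exact hn (triv_of g1 g2)

end Cfsg.Agent.H977.L16
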