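import Cfsg.Agent.H939.L16.Def
import Cfsg.Agent.H413.L16.Nel
import Cfsg.Agent.H378.TorFin
import Cfsg.Agent.S1025

/-!
# S5916, piece END-E: the operators of the frame and the root elements (helper977)

* `exists_em` : an element of `E₈(KK)` commuting with the Frobenius map comes from `E₈(2)`;
* `Fp_inr`, `Fp_xr` : `Fp` on the coordinates and on the root elements;
* `xr_comm` : root elements of orthogonal roots commute.
-/

set_option autoImplicit false
set_option maxRecDepth 100000
set_option linter.unusedSectionVars false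

namespace Cfsg.Agent.H977.L16

open Matrix Cfsg Cfsg.Lie Cfsg.Lie.ChevalleyDatum
open Cfsg.Agent.ChevalleyStructure
open Cfsg.Agent.H942.E8Tab
open Cfsg.Agent.H939.L64 (KK E2 LK L2 em aK fr rE brK em_injective em_entry)
open Cfsg.Agent.H876.L64 (aK_mul aK_one aK_inv aK_inv' aK_add aK_smul aK_zero aK_brK two_zero)
open Cfsg.Agent.H413.L64 (charKK)
open Cfsg.Agent.H413.L16
open Cfsg.Agent.H939.L16 (Ops Lsit rz rz_apply wi wt16)
open Cfsg.Agent.ChevalleyStructure.Columns (car cor)

theorem aK_ext {g h : ↥(chevE8.group KK)} (H : ∀ v, aK g v = aK h v) : g = h := by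
  apply Subtype.ext
  apply Units.ext
  exact Matrix.mulVec_injective (funext H)

/-- **descent** -/
theorem exists_em {G : ↥(chevE8.group KK)} (h : ∀ v, fr (aK G v) = aK G (fr v)) : ∃ g : E2, em g = G := by
  have := charKK
  haveI : Fact (Nat.Prime 2) := ⟨Nat.prime_two⟩
  have hy : Cfsg.Agent.BpExc.FamUntw.phi chevE8 KK 2 1 G = G := by
    apply Subtype.ext
    apply Units.ext
    rw [Cfsg.Agent.BpExc.FamUntw.phi_coe]
    ext i j
    rw [Matrix.map_apply, pow_one]
    have h1 := congrFun (h (Pi.single j 1)) i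
    have h2 : fr (Pi.single j 1 : LK) = Pi.single j 1 := by
      funext k
      show (Pi.single j 1 : LK) k ^ 2 = _
      by_cases hk : k = j
      · subst hk; rw [Pi.single_eq_same, one_pow]
      · rw [Pi.single_eq_of_ne hk, zero_pow two_ne_zero]
    rw [h2] at h1
    have h3 : ∀ i, aK G (Pi.single j 1) i = ((G : GL chevE8.Idx KK) : Matrix chevE8.Idx chevE8.Idx KK) i j := by
      intro i
      show (((G : GL chevE8.Idx KK) : Matrix chevE8.Idx chevE8.Idx KK)).mulVec (Pi.single j 1) i = _
      rw [Matrix.mulVec_single_one]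
      rfl
    show (((G : GL chevE8.Idx KK) : Matrix chevE8.Idx chevE8.Idx KK) i j) ^ 2 = _
    rw [← h3]
    exact h1
  exact Cfsg.Agent.H378.TorFin.fix_mem e8T (algebraMap (ZMod 2) KK) 2 (n := 1)
    (by rw [Nat.card_eq_fintype_card, ZMod.card]; rfl) Cfsg.Agent.BpExc.FamInst.inv_E8 hy

/-! ### coordinates -/

/-- the permutation `wi` on the indices -/
theorem wi_lt {s : ℕ} (hs : s < 240) : wi s < 240 := by
  have h : ((List.range 240).all fun s => decide (wi s < 240)) = true := by decide +kernel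
  exact of_decide_eq_true (List.all_eq_true.1 h s (List.mem_range.2 hs))

theorem wi_neg {s : ℕ} (hs : s < 240) : wi (239 - s) = 239 - wi s := by
  have h : ((List.range 240).all fun s => decide (wi (239 - s) = 239 - wi s)) = true := by decide +kernel
  exact of_decide_eq_true (List.all_eq_true.1 h s (List.mem_range.2 hs))

/-- the inverse permutation, as a list -/
theorem wi_inj {s t : ℕ} (hs : s < 240) (ht : t < 240) (h : wi s = wi t) : s = t := by
  have h1 : (Cfsg.Agent.H939.L16.WT).Nodup := by decide +kernel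
  have hl : (Cfsg.Agent.H939.L16.WT).length = 240 := by decide +kernel
  unfold wi at h
  rw [List.getD_eq_getElem _ _ (by rw [hl]; exact hs), List.getD_eq_getElem _ _ (by rw [hl]; exact ht)] at h
  exact (List.Nodup.getElem_inj_iff h1).1 h

section

variable {Fp : LK → LK} {ta : LK →ₗ[KK] LK} (O : Ops Fp ta)

include O

theorem Fp_zero : Fp 0 = 0 := by
  have h := O.smul 0 0
  rw [zero_smul, zero_pow two_ne_zero, zero_smul] at h
  exact h

theorem Fp_sum {ι : Type*} (s : Finset ι) (g : ι → LK) : Fp (∑ i ∈ s, g i) = ∑ i ∈ s, Fp (g i) := by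
  classical
  induction s using Finset.induction_on with
  | empty => rw [Finset.sum_empty, Finset.sum_empty, Fp_zero O]
  | insert a s ha ih => rw [Finset.sum_insert ha, Finset.sum_insert ha, O.add, ih]

theorem Fp_hr {a : ℕ} (ha : a < 240) : Fp (hr a) = hr (wi a) := by
  rw [← br_neg ha, O.br, O.er a ha, O.er (239 - a) (by omega), wi_neg ha, br_neg (wi_lt ha)]

end

theorem cor_six : ∀ i j : Fin 8, cor chevE8 (six i) j = if j = i then 1 else 0 := by decide +kernel

theorem hv_single (i : Fin chevE8.rank) : hv (Pi.single i 1) = hr (six (i.cast rk8)) := by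
  unfold hr
  congr 1
  funext j
  have h := cor_six (i.cast rk8) (j.cast rk8)
  have e : ((j.cast rk8 : Fin 8) : ℕ) = j := rfl
  rw [e] at h
  rw [h]
  by_cases hj : j = i
  · subst hj
    rw [Pi.single_eq_same, if_pos rfl, Int.cast_one]
  · have hj' : ¬ (j.cast rk8 = i.cast rk8) := fun h1 => hj (Fin.ext (congrArg Fin.val h1))
    rw [Pi.single_eq_of_ne hj, if_neg hj', Int.cast_zero]

theorem hv_sum (c : Fin chevE8.rank → KK) : hv c = ∑ i, c i • hr (six (i.cast rk8)) := by
  have h : c = ∑ i, c i • (Pi.single i 1 : Fin chevE8.rank → KK) := by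
    funext j
    rw [Finset.sum_apply, Finset.sum_eq_single j]
    · rw [Pi.smul_apply, Pi.single_eq_same, smul_eq_mul, mul_one]
    · intro i _ hi
      rw [Pi.smul_apply, Pi.single_eq_of_ne hi.symm, smul_zero]
    · intro h
      exact absurd (Finset.mem_univ _) h
  have hadd : ∀ (s : Finset (Fin chevE8.rank)) (g : Fin chevE8.rank → (Fin chevE8.rank → KK)),
      hv (∑ i ∈ s, g i) = ∑ i ∈ s, hv (g i) := by
    intro s g
    funext a
    rw [Finset.sum_apply]
    rcases a with a | a
    · show (∑ i ∈ s, g i) a = ∑ i ∈ s, g i a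
      rw [Finset.sum_apply]
    · show (0 : KK) = ∑ i ∈ s, (0 : KK)
      rw [Finset.sum_const_zero]
  have hsm : ∀ (c : KK) (g : Fin chevE8.rank → KK), hv (c • g) = c • hv g := by
    intro c g
    funext a
    rcases a with a | a
    · rfl
    · show (0 : KK) = c * 0
      rw [mul_zero]
  conv_lhs => rw [h]
  rw [hadd]
  exact Finset.sum_congr rfl fun i _ => by rw [hsm, hv_single]

/-- the decomposition of a vector -/
theorem decomp (u : LK) : u = hv (fun i => u (Sum.inl i)) + ∑ s : Fin chevE8.nroots, u (Sum.inr s) • er s := by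
  funext a
  rw [Pi.add_apply, Finset.sum_apply]
  rcases a with a | a
  · have h1 : ∀ s : Fin chevE8.nroots, (u (Sum.inr s) • er s) (Sum.inl a) = 0 := by
      intro s
      rw [Pi.smul_apply, er_of s.2, Pi.single_eq_of_ne (by simp), smul_zero]
    rw [Finset.sum_congr rfl fun s _ => h1 s, Finset.sum_const_zero, add_zero]
    rfl
  · have h1 : ∀ s : Fin chevE8.nroots, (u (Sum.inr s) • er s) (Sum.inr a) = if s = a then u (Sum.inr a) else 0 := by
      intro s
      rw [Pi.smul_apply, er_inr, smul_eq_mul]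
      by_cases h : s = a
      · subst h
        rw [if_pos rfl, if_pos rfl, mul_one]
      · rw [if_neg h, if_neg (fun h2 => h (Fin.ext h2)), mul_zero]
    rw [Finset.sum_congr rfl fun s _ => h1 s, Finset.sum_ite_eq' Finset.univ a, if_pos (Finset.mem_univ a)]
    show _ = (0 : KK) + _
    rw [zero_add]

section

variable {Fp : LK → LK} {ta : LK →ₗ[KK] LK} (O : Ops Fp ta)

include O

/-- `Fp` on the coordinates -/
theorem Fp_inr (u : LK) {s : ℕ} (hs : s < 240) :
    Fp u (Sum.inr ⟨wi s, by rw [nr]; exact wi_lt hs⟩) = u (Sum.inr ⟨s, by rw [nr]; exact hs⟩) ^ 2 := by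
  conv_lhs => rw [decomp u]
  rw [O.add, Fp_sum O, hv_sum, Fp_sum O, Pi.add_apply, Finset.sum_apply, Finset.sum_apply]
  have h1 : ∀ i : Fin chevE8.rank, Fp (u (Sum.inl i) • hr (six (i.cast rk8)))
      (Sum.inr ⟨wi s, by rw [nr]; exact wi_lt hs⟩) = 0 := by
    intro i
    rw [O.smul, Fp_hr O (six_lt _), Pi.smul_apply, hr_inr, smul_zero]
  rw [Finset.sum_congr rfl fun i _ => h1 i, Finset.sum_const_zero, zero_add]
  have h2 : ∀ t : Fin chevE8.nroots, Fp (u (Sum.inr t) • er t) (Sum.inr ⟨wi s, by rw [nr]; exact wi_lt hs⟩) =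
      if t = ⟨s, by rw [nr]; exact hs⟩ then u (Sum.inr ⟨s, by rw [nr]; exact hs⟩) ^ 2 else 0 := by
    intro t
    have ht : (t : ℕ) < 240 := lt_of_lt_of_eq t.2 nr
    rw [O.smul, O.er t ht, Pi.smul_apply, er_inr, smul_eq_mul]
    by_cases h : t = ⟨s, by rw [nr]; exact hs⟩
    · subst h
      rw [if_pos rfl, if_pos rfl, mul_one]
    · rw [if_neg h, if_neg (fun h2 => h (Fin.ext (wi_inj ht hs h2))), mul_zero]
  rw [Finset.sum_congr rfl fun t _ => h2 t, Finset.sum_ite_eq' Finset.univ, if_pos (Finset.mem_univ _)]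

/-- `Fp` and the root elements -/
theorem Fp_xr {r : ℕ} (hr' : r < 240) (c : KK) (u : LK) : Fp (aK (xr r c) u) = aK (xr (wi r) (c ^ 2)) (Fp u) := by
  have h239 : 239 - r < 240 := by omega
  have e : (Fp u) (Sum.inr ⟨239 - wi r, by rw [nr]; omega⟩) = u (Sum.inr ⟨239 - r, by rw [nr]; omega⟩) ^ 2 := by
    rw [← Fp_inr O u h239]
    congr 3
    exact (wi_neg hr').symm
  rw [aK_xr hr', aK_xr (wi_lt hr'), O.add, O.add, O.smul, O.smul, O.br, O.er r hr', e]
  congr 2
  ring

end

/-- root elements of orthogonal roots commute -/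
theorem xr_comm {r s : ℕ} (hr' : r < 240) (hs : s < 240) (h : s ≠ r) (h' : s ≠ chevE8.neg r)
    (hn : chevE8.commTerms r s = []) (c d : KK) : Commute (xr r c) (xr s d) := by
  have h1 := Cfsg.Agent.S1025.result chevE8 (by simp) r s (by rw [nr]; exact hr') (by rw [nr]; exact hs) h h' c d
  have h2 : chevE8.commWord KK r s c d = [] := by
    unfold ChevalleyDatum.commWord
    rw [hn]
    rfl
  rw [h2] at h1
  have h3 : chevE8.wordMat KK ([] : List (ℕ × KK)) = 1 := rfl
  rw [h3, mul_one] at h1
  apply Subtype.ext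
  apply Units.ext
  rw [Subgroup.coe_mul, Units.val_mul, Subgroup.coe_mul, Units.val_mul, coe_xr hr', coe_xr hs]
  exact h1.symm

end Cfsg.Agent.H977.L16
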